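import Cfsg.Agent.H41.NatN
import Cfsg.Agent.H8.SL2Even
import Cfsg.Agent.H81.SmallDeg
import Cfsg.Agent.S0256

/-! The case `q = 4`: subgroups of `A₈` over `SL₂(4).2`. -/

set_option autoImplicit false

namespace Cfsg.Agent.H41.NatN

open Matrix Cfsg.Agent.H69 MulAction

theorem stab_equiv {G α : Type*} [Group G] [Finite G] [Finite α] [MulAction G α] [FaithfulSMul G α]
    (a : α) (hα : Nat.card α = 8) (hc : Nat.card (stabilizer G a) = 2520) :
    Nonempty (stabilizer G a ≃* alternatingGroup (Fin 7)) := by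
  classical
  haveI := H81.faithful_ofStabilizer (G := G) a
  haveI := Fintype.ofFinite (SubMulAction.ofStabilizer G a)
  have h7 : Fintype.card (SubMulAction.ofStabilizer G a) = 7 := by
    rw [← Nat.card_eq_fintype_card, SubMulAction.nat_card_ofStabilizer_eq, hα]
  obtain ⟨f⟩ := H9.nonempty_equiv_alternatingGroup
    (MulAction.toPermHom (stabilizer G a) (SubMulAction.ofStabilizer G a))
    MulAction.toPerm_injective (by rw [h7, hc]; rfl)
  exact ⟨f.trans (Equiv.altCongrHom (Fintype.equivFinOfCardEq h7))⟩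

theorem index_eight {H : Type*} [Group H] [Finite H] (φ : H →* alternatingGroup (Fin 8))
    (hφ : Function.Injective φ) (hc : Nat.card H = 2520) :
    Nonempty (H ≃* alternatingGroup (Fin 7)) := by
  classical
  haveI : IsSimpleGroup (alternatingGroup (Fin 8)) := alternatingGroup.isSimpleGroup (by simp)
  have h8 : Nat.card (alternatingGroup (Fin 8)) = 20160 := by
    rw [nat_card_alternatingGroup]; simp [Nat.factorial]
  set K := φ.range with hK
  have e : H ≃* K := MonoidHom.ofInjective hφ
  have hKc : Nat.card K = 2520 := by rw [← Nat.card_congr e.toEquiv, hc]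
  have hi : K.index = 8 := by
    have := K.card_mul_index
    rw [hKc, h8] at this; omega
  haveI : FaithfulSMul (alternatingGroup (Fin 8)) (alternatingGroup (Fin 8) ⧸ K) := by
    rcases (inferInstance : K.normalCore.Normal).eq_bot_or_eq_top with h | h
    · rw [Subgroup.normalCore_eq_ker, MonoidHom.ker_eq_bot_iff] at h
      exact ⟨fun {a b} hab => h (Equiv.ext hab)⟩
    · have := K.normalCore_le
      rw [h, top_le_iff] at this
      rw [this, Subgroup.index_top] at hi; omega
  set a : alternatingGroup (Fin 8) ⧸ K := ((1 : alternatingGroup (Fin 8)) : _ ⧸ K) with ha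
  have hs : stabilizer (alternatingGroup (Fin 8)) a = K := stabilizer_quotient K
  obtain ⟨f⟩ := stab_equiv a (by rw [← Subgroup.index, hi]) (by rw [hs, hKc])
  exact ⟨(e.trans (MulEquiv.subgroupCongr hs.symm)).trans f⟩

theorem a8_case {H : Type*} [Group H] [Finite H] (φ : H →* alternatingGroup (Fin 8))
    (hφ : Function.Injective φ) (L : Subgroup H) (hL : Nat.card L = 60) [IsSimpleGroup L]
    (T : Sylow 2 H) (hT8 : Nat.card T ∣ 8)
    (hTN : (T : Subgroup H) ≤ Subgroup.normalizer (L : Set H))
    (ht : ∃ t ∈ (T : Subgroup H), t ∉ L) :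
    L.Normal ∨ Nonempty (H ≃* alternatingGroup (Fin 7)) := by
  classical
  have h8 : Nat.card (alternatingGroup (Fin 8)) = 20160 := by
    rw [nat_card_alternatingGroup]; simp [Nat.factorial]
  have hd : Nat.card H ∣ 20160 := h8 ▸ Subgroup.card_dvd_of_injective φ hφ
  have hd2 : Nat.card H ∣ 2520 := by
    have h1 : (T : Subgroup H).index ∣ 64 * 315 := (Subgroup.index_dvd_card _).trans hd
    have h2 : Nat.Coprime (T : Subgroup H).index (2 ^ 6) :=
      Nat.Coprime.pow_right _ ((Nat.Prime.coprime_iff_not_dvd Nat.prime_two).2 T.not_dvd_index).symm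
    have h3 := h2.dvd_of_dvd_mul_left h1
    rw [← (T : Subgroup H).card_mul_index]
    exact Nat.mul_dvd_mul hT8 h3
  set N := Subgroup.normalizer (L : Set H) with hN
  have hLN : L ≤ N := Subgroup.le_normalizer
  haveI hnor : (L.subgroupOf N).Normal := Subgroup.normal_in_normalizer
  have hLc : Nat.card (L.subgroupOf N) = 60 := by
    rw [Nat.card_congr (Subgroup.subgroupOfEquivOfLe hLN).toEquiv, hL]
  have hev : 2 ∣ (L.subgroupOf N).index := by
    by_contra hodd
    obtain ⟨t, htT, htL⟩ := ht
    obtain ⟨k, hk⟩ := T.isPGroup' ⟨t, htT⟩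
    have hk' : t ^ 2 ^ k = 1 := congrArg Subtype.val hk
    have h1 : t ^ (L.subgroupOf N).index ∈ L :=
      (L.subgroupOf N).pow_index_mem (⟨t, hTN htT⟩ : N)
    have hc : Nat.Coprime (L.subgroupOf N).index (2 ^ k) :=
      Nat.Coprime.pow_right _ ((Nat.Prime.coprime_iff_not_dvd Nat.prime_two).2 hodd).symm
    have ho : Nat.Coprime (L.subgroupOf N).index (orderOf t) :=
      hc.coprime_dvd_right (orderOf_dvd_of_pow_eq_one hk')
    obtain ⟨m, hm⟩ := exists_pow_eq_self_of_coprime ho
    exact htL (hm ▸ L.pow_mem h1 m)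
  obtain ⟨j, hj⟩ := hev
  have hNc : Nat.card N = 120 * j := by
    rw [← (L.subgroupOf N).card_mul_index, hLc, hj]; ring
  have hH : Nat.card H = 120 * (j * N.index) := by rw [← N.card_mul_index, hNc]; ring
  have h21 : j * N.index ∣ 21 := by
    rw [hH] at hd2
    exact Nat.dvd_of_mul_dvd_mul_left (by norm_num : 0 < 120) hd2
  by_cases hi1 : N.index = 1
  · left
    rw [Subgroup.index_eq_one] at hi1
    exact Subgroup.normalizer_eq_top_iff.1 hi1
  by_cases h21' : j * N.index = 21
  · right
    exact index_eight φ hφ (by rw [hH, h21'])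
  left
  have hij : j = 1 ∧ (N.index = 3 ∨ N.index = 7) := by
    have h1 : N.index ∣ 21 := (Dvd.intro_left j rfl).trans h21
    have h2 : j ∣ 21 := (Dvd.intro _ rfl).trans h21
    have h3 := Nat.le_of_dvd (by norm_num) h1
    have h4 := Nat.le_of_dvd (by norm_num) h2
    generalize N.index = i at *
    clear hH hNc hj hd2 hd
    interval_cases j <;> simp at h2 <;> interval_cases i <;> simp_all
  obtain ⟨rfl, hi⟩ := hij
  rcases (inferInstance : (N.normalCore.subgroupOf L).Normal).eq_bot_or_eq_top with h | h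
  · exfalso
    set ψ := MulAction.toPermHom H (H ⧸ N) with hψ
    have hinj : Function.Injective (ψ.rangeRestrict.comp L.subtype) := by
      rw [injective_iff_map_eq_one]
      intro x hx
      have : x ∈ N.normalCore.subgroupOf L := by
        rw [Subgroup.mem_subgroupOf, Subgroup.normalCore_eq_ker]
        exact congrArg Subtype.val hx
      rwa [h, Subgroup.mem_bot] at this
    have h60 : 60 ∣ Nat.card ψ.range := hL ▸ Subgroup.card_dvd_of_injective _ hinj
    haveI := Fintype.ofFinite (H ⧸ N)
    have hcq : Fintype.card (H ⧸ N) = N.index := by rw [← Nat.card_eq_fintype_card]; rfl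
    rcases hi with hi | hi
    · have := h60.trans (Subgroup.card_subgroup_dvd_card ψ.range)
      rw [Nat.card_eq_fintype_card, Fintype.card_perm, hcq, hi] at this
      norm_num [Nat.factorial] at this
    · haveI : IsPretransitive ψ.range (H ⧸ N) := ⟨fun x y => by
        obtain ⟨g, hg⟩ := exists_smul_eq H x y
        exact ⟨⟨ψ g, g, rfl⟩, hg⟩⟩
      have hA := H81.alt_le_of_degree_seven (hcq.trans hi) ψ.range
        ((by norm_num : 5 ∣ 60).trans h60)
      haveI : Nontrivial (H ⧸ N) := Fintype.one_lt_card_iff_nontrivial.1 (by omega)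
      have h1 := (Subgroup.card_dvd_of_le hA).trans (Subgroup.card_range_dvd ψ)
      rw [nat_card_alternatingGroup, Nat.card_eq_fintype_card (α := H ⧸ N), hcq, hH, hi] at h1
      norm_num [Nat.factorial] at h1
  · have hLK : L ≤ N.normalCore := Subgroup.subgroupOf_eq_top.1 h
    refine ⟨fun x hx g => ?_⟩
    let θ : L →* N :=
      { toFun := fun y => ⟨g * y * g⁻¹, hLK y.2 g⟩
        map_one' := Subtype.ext (by simp)
        map_mul' := fun a b => Subtype.ext (by simp [mul_assoc]) }
    let χ := (QuotientGroup.mk' (L.subgroupOf N)).comp θ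
    rcases (inferInstance : χ.ker.Normal).eq_bot_or_eq_top with k | k
    · exfalso
      have := Subgroup.card_dvd_of_injective χ (MonoidHom.ker_eq_bot_iff _ |>.1 k)
      rw [hL, ← Subgroup.index, hj] at this
      norm_num at this
    · have : (⟨x, hx⟩ : L) ∈ χ.ker := k ▸ Subgroup.mem_top _
      exact (QuotientGroup.eq_one_iff (N := L.subgroupOf N) (θ ⟨x, hx⟩)).1 this

variable {F : Type*} [Field F] {H : Type*} [Group H] [DistribMulAction H (Fin 2 → F)]
  {ι : SL2 F →* H}

theorem Su.embed [Fintype F] [CharP F 2] (S : Su ι) (h4 : Fintype.card F = 4) :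
    ∃ φ : H →* alternatingGroup (Fin 8), Function.Injective φ := by
  classical
  letI : Algebra (ZMod 2) F := ZMod.algebra F 2
  have hr : Module.finrank (ZMod 2) (Fin 2 → F) = 4 := by
    have := Module.natCard_eq_pow_finrank (K := ZMod 2) (V := Fin 2 → F)
    rw [Nat.card_zmod, Nat.card_fun, Nat.card_eq_fintype_card, h4, Nat.card_eq_fintype_card,
      Fintype.card_fin] at this
    exact Nat.pow_right_injective (le_refl 2) (this.symm.trans (by norm_num))
  let b := Module.finBasisOfFinrankEq (ZMod 2) (Fin 2 → F) hr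
  let l : H →* Module.End (ZMod 2) (Fin 2 → F) :=
    { toFun := fun h => (DistribSMul.toAddMonoidHom (Fin 2 → F) h).toZModLinearMap 2
      map_one' := by ext w; simp
      map_mul' := fun g h => by ext w; simp [mul_smul] }
  let ρ : H →* Matrix (Fin 4) (Fin 4) (ZMod 2) := (LinearMap.toMatrixAlgEquiv b).toMulEquiv.toMonoidHom.comp l
  have hdet : ∀ h, (ρ h).det = 1 := by
    intro h
    have : (ρ h).det * (ρ h⁻¹).det = 1 := by rw [← det_mul, ← map_mul, mul_inv_cancel, map_one, det_one]
    revert this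
    generalize (ρ h).det = x
    generalize (ρ h⁻¹).det = y
    revert x y; decide
  let ρ' : H →* SpecialLinearGroup (Fin 4) (ZMod 2) :=
    { toFun := fun h => ⟨ρ h, hdet h⟩
      map_one' := Subtype.ext (map_one ρ)
      map_mul' := fun g h => Subtype.ext (map_mul ρ g h) }
  have hinj : Function.Injective ρ' := by
    intro g h e
    have e1 : ρ g = ρ h := congrArg Subtype.val e
    have e2 : l g = l h := (LinearMap.toMatrixAlgEquiv b).injective e1
    exact S.ext fun w => LinearMap.congr_fun e2 w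
  have hz : Subgroup.center (Matrix.SpecialLinearGroup (Fin 4) (ZMod 2)) = ⊥ := by
    rw [← Subgroup.card_eq_one, H9.card_center_sl]; simp
  obtain ⟨e⟩ := S0256.result (F := ZMod 2) (by simp)
  let e' := (H9.quotCenterEquivOfBot hz).symm.trans e
  exact ⟨e'.toMonoidHom.comp ρ', e'.injective.comp hinj⟩

variable [Fintype F] [Finite H] {p : ℕ} [Fact p.Prime] [CharP F p] {T : Sylow p H}

theorem Sy.card_T (S : Sy ι p T) : Nat.card T ∣ Nat.card F * Nat.card (RingAut F) := by
  have h : ∀ t : (T : Subgroup H), ∃ σ : RingAut F, Sem (t : H) σ := fun t => S.exists_sem (S.norm t.2)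
  choose s hs using h
  let φ : (T : Subgroup H) →* RingAut F :=
    MonoidHom.mk' s fun a b => (hs (a * b)).unique ((hs a).mul (hs b))
  have hk : Nat.card φ.ker = Nat.card F := by
    symm
    refine Nat.card_congr (Equiv.ofBijective
      (fun c => ⟨⟨ι (up c), S.up_mem c⟩, (hs _).unique (S.sem_one _)⟩) ⟨fun a b e => ?_, fun t => ?_⟩)
    · exact up_injective (S.inj (congrArg (fun x : φ.ker => (x.1 : H)) e))
    · have h1 : s t.1 = 1 := t.2
      obtain ⟨c, hc⟩ := S.lin t.1.2 (h1 ▸ hs t.1)
      exact ⟨c, Subtype.ext (Subtype.ext hc.symm)⟩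
  have := φ.ker.card_mul_index
  rw [hk, Subgroup.index_ker] at this
  show Nat.card (T : Subgroup H) ∣ _
  rw [← this]
  exact Nat.mul_dvd_mul_left _ (Subgroup.card_subgroup_dvd_card _)

theorem Sy.main (S : Sy ι p T) :
    ι.range.Normal ∨ (Fintype.card F = 4 ∧ Nonempty (H ≃* alternatingGroup (Fin 7))) := by
  by_cases hA : ∀ g ∉ M F H, ∀ c : F, c ≠ 0 → g * ι (up c) * g⁻¹ ∉ M F H
  · exact Or.inl (S.normal_of hA)
  push_neg at hA
  obtain ⟨g, hg, c, hc, hM⟩ := hA
  obtain ⟨h4, ht⟩ := S.exc hg hc hM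
  obtain rfl : p = 2 := by
    obtain ⟨n, -, hn⟩ := FiniteField.card F p
    have : p ∣ 2 ^ 2 := by
      rw [show 2 ^ 2 = 4 from rfl, ← h4, hn]; exact dvd_pow_self p n.ne_zero
    exact (Nat.prime_dvd_prime_iff_eq Fact.out Nat.prime_two).1
      ((Fact.out : p.Prime).dvd_of_dvd_pow this)
  obtain ⟨φ, hφ⟩ := S.embed h4
  have e : SL2 F ≃* ι.range := MonoidHom.ofInjective S.inj
  have h4' : Nat.card F = 4 := by rw [Nat.card_eq_fintype_card, h4]
  haveI : IsSimpleGroup (SL2 F) := H8.sl2e_simple (CharTwo.two_eq_zero) h4'.ge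
  haveI : IsSimpleGroup ι.range := e.symm.isSimpleGroup
  have hL : Nat.card ι.range = 60 := by
    rw [← Nat.card_congr e.toEquiv, H8.sl2e_card, h4']; norm_num
  have hT := S.card_T
  rw [h4', H29.card_ringAut (p := 2) (f := 2) h4] at hT
  exact (a8_case φ hφ ι.range hL T hT S.norm ht).imp id fun h => ⟨h4, h⟩

end Cfsg.Agent.H41.NatN
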